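import Mathlib
import Cfsg.Prelude.Def_LieClassical
import Cfsg.Agent.Lib.helper15.UNat

/-!
# Project PGM (S2263): the largest element order of `PGU_d(q)` — definitions

* `Qn q l = q^l - (-1)^l` is `Cfsg.Agent.Lib.helper15.UNat.Qn` (reused).
* `Mx p f d` : the claimed maximum.
* `psi q x = (x^q)⁻¹` : the map on eigenvalues induced by `g ↦ (g^*)⁻¹`.
* `lcmL`, `maxm` : list helpers for the arithmetic core.
* `SelfDual q A` : `A` is invertible and similar to its inverse conjugate transpose.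
* `PGU d F q` : abbreviation for `GU_d(q) / centre`.
-/

set_option autoImplicit false

namespace Cfsg.Agent.Lib.Helper10.PGM

open Cfsg.Agent.Lib.helper15.UNat

/-- the claimed largest element order of `PGU_d(p^f)` -/
def Mx (p f d : ℕ) : ℕ :=
  if Odd d then (if 2 ≤ f then (p ^ f) ^ (d - 1) - 1 else (p ^ (d - 2) + 1) * p)
  else (if 2 < p ^ f then (p ^ f) ^ (d - 1) + 1 else 4 * (2 ^ (d - 3) + 1))

/-- `x ↦ x^(-q)` -/
def psi {K : Type*} [Field K] (q : ℕ) (x : K) : K := (x ^ q)⁻¹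

/-- lcm of a list -/
def lcmL (L : List ℕ) : ℕ := L.foldr Nat.lcm 1

/-- largest second component -/
def maxm (L : List (ℕ × ℕ)) : ℕ := (L.map Prod.snd).foldr max 0

/-- `A` is invertible (inverse `A'`) and similar to `(A'^σ)ᵀ = (A^*)⁻¹`, `σ x = x^q` -/
def SelfDual {F : Type*} [Field F] {n : ℕ} (q : ℕ) (A : Matrix (Fin n) (Fin n) F) : Prop :=
  ∃ A' C C' : Matrix (Fin n) (Fin n) F, A * A' = 1 ∧ A' * A = 1 ∧ C * C' = 1 ∧ C' * C = 1 ∧
    C * A = (A'.map (fun x => x ^ q)).transpose * C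

/-- `PGU_d(q)` -/
abbrev PGU (d : ℕ) (F : Type*) [Field F] (q : ℕ) : Type _ :=
  ↥(Cfsg.GU d F q) ⧸ Subgroup.center ↥(Cfsg.GU d F q)

end Cfsg.Agent.Lib.Helper10.PGM
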